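import Groth.Agent.Lib.Curves.PointIdeal
import Groth.Agent.Lib.Curves.Finiteness
import Groth.Agent.Lib.MeroK.DivMod
import Groth.Agent.Lib.MeroCurve.Basic
import Groth.Agent.Lib.SSComp98.Points
import Groth.Agent.Lib.Regular.Quotient
import Groth.Agent.Lib.Ample.GG

/-!
# The divisor of a point and sections of `O(D)` vanishing there
-/

set_option autoImplicit false
set_option linter.style.haveILetI false
universe u

noncomputable section

open CategoryTheory CategoryTheory.Limits AlgebraicGeometry Opposite TopologicalSpace Mero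
open scoped nonZeroDivisors

namespace Groth.Agent.H25.DivPoint

open Groth.Agent.Lib Groth.Agent.Lib.MeroK.Basic
open Groth.Agent.Lib.TensorMod.Dual Groth.Agent.Lib.TensorMod.Gen
open Groth.Agent.Lib.Curves.PointIdeal

variable {X : Scheme.{u}}

theorem isAbsCurve (hdim : topologicalKrullDim X ≤ 1)
    (hequi : ∀ Z ∈ irreducibleComponents (X : Type u), topologicalKrullDim Z = 1) :
    MeroCurve.IsAbsCurve X := fun x hx => by
  refine le_antisymm ((SSComp98.Points.ringKrullDim_stalk_le x).trans hdim) ?_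
  by_contra hlt
  haveI : Ring.KrullDimLE 0 (X.presheaf.stalk x) :=
    (Order.krullDimLE_iff _ _).2 (by
      have h1 := lt_of_not_ge hlt
      change ringKrullDim (X.presheaf.stalk x) ≤ ((0 : ℕ) : WithBot ℕ∞)
      revert h1
      generalize ringKrullDim (X.presheaf.stalk x) = d
      intro h1
      induction d using WithBot.recBotCoe with
      | bot => exact bot_le
      | coe n =>
        rw [← WithBot.coe_one, WithBot.coe_lt_coe, ENat.lt_one_iff_eq_zero] at h1
        subst h1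
        exact le_rfl)
  obtain ⟨P, hP, -⟩ := Ideal.exists_minimalPrimes_le
    (show (⊥ : Ideal (X.presheaf.stalk x)) ≤ IsLocalRing.maximalIdeal _ from bot_le)
  have := hP.1.1
  exact SSComp98.Points.ne_maximal_of_mem_minimalPrimes hequi x hx hP
    (Ring.KrullDimLE.eq_maximalIdeal_of_isPrime P)

variable {x : X} (hx : IsClosed ({x} : Set X))

/-- The divisor behaviour of a point. -/
def IsPointDiv (x : X) (P : Divisor X) : Prop :=
  (∀ y, y ≠ x → P.1 y = 1) ∧
    ∃ a : regStalk X x, P.1 x = MeroCurve.cls a ∧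
      IsLocalRing.maximalIdeal (X.presheaf.stalk x) = Ideal.span {a.1}

theorem isEffective_of_isPointDiv {P : Divisor X} (h : IsPointDiv x P) : IsEffective P := fun y => by
  by_cases hy : y = x
  · subst hy
    obtain ⟨a, ha, -⟩ := h.2
    exact ⟨a, ha⟩
  · exact ⟨1, (h.1 y hy).trans (MeroCurve.cls_eq_one 1 isUnit_one).symm⟩

theorem germ_not_isUnit_of_mem {W : X.affineOpens} (hxW : x ∈ W.1) {a : Γ(X, W.1)}
    (ha : a ∈ (ptI hx).ideal W) : ¬ IsUnit (X.presheaf.germ W.1 x hxW a) := fun hu => by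
  rw [Scheme.IdealSheafData.vanishingIdeal_ideal, PrimeSpectrum.mem_vanishingIdeal] at ha
  let p := W.2.primeIdealOf ⟨x, hxW⟩
  have hp : W.2.fromSpec p = x := W.2.fromSpec_primeIdealOf ⟨x, hxW⟩
  have h1 : p ∈ W.2.fromSpec ⁻¹ᵁ X.basicOpen a := by
    change W.2.fromSpec p ∈ X.basicOpen a
    rw [hp]
    exact (X.mem_basicOpen a x hxW).mpr hu
  rw [W.2.fromSpec_preimage_basicOpen] at h1
  exact h1 (ha p hp)

theorem isPointDiv_of_isDivOfIdeal {P : Divisor X} (h : IsDivOfIdeal P (ptI hx)) :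
    IsPointDiv x P := by
  refine ⟨fun y hy => ?_, ?_⟩
  · obtain ⟨U, hyU, f, hf, hI, hP⟩ := h y
    rw [hP ⟨y, hyU⟩]
    refine MeroCurve.cls_eq_one (regGerm ⟨y, hyU⟩ ⟨f, hf⟩) ?_
    have hns : y ∉ (ptI hx).support := fun hs => hy ((Set.ext_iff.1 (support_ptI hx) y).1 hs)
    rw [Scheme.IdealSheafData.mem_support_iff_of_mem hyU, hI, Scheme.zeroLocus_span,
      Scheme.zeroLocus_singleton, Set.notMem_compl_iff] at hns
    exact (X.mem_basicOpen f y hyU).mp hns
  · obtain ⟨U, hxU, f, hf, hI, hP⟩ := h x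
    refine ⟨regGerm ⟨x, hxU⟩ ⟨f, hf⟩, hP ⟨x, hxU⟩, ?_⟩
    change IsLocalRing.maximalIdeal _ = Ideal.span {X.presheaf.germ U.1 x hxU f}
    refine le_antisymm (fun z hz => ?_) ?_
    · let := X.presheaf.algebra_section_stalk (⟨x, hxU⟩ : U.1)
      haveI := U.2.isLocalization_stalk ⟨x, hxU⟩
      obtain ⟨⟨b, c⟩, hbc⟩ := IsLocalization.surj (U.2.primeIdealOf ⟨x, hxU⟩).asIdeal.primeCompl z
      have hbc' : z * X.presheaf.germ U.1 x hxU c.1 = X.presheaf.germ U.1 x hxU b := hbc
      have hc : IsUnit (X.presheaf.germ U.1 x hxU c.1) :=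
        IsLocalization.map_units (X.presheaf.stalk x) c
      have hb : ¬ IsUnit (X.presheaf.germ U.1 x hxU b) := by
        rw [← hbc']
        exact fun hu => hz (isUnit_of_mul_isUnit_left hu)
      have hbI := mem_ideal_of_germ hx hxU b hb
      rw [hI, Ideal.mem_span_singleton] at hbI
      rw [Ideal.mem_span_singleton]
      exact (hc.dvd_mul_right).1 (hbc' ▸ map_dvd _ hbI)
    · rw [Ideal.span_le, Set.singleton_subset_iff]
      exact germ_not_isUnit_of_mem hx hxU (by rw [hI]; exact Ideal.mem_span_singleton_self f)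

theorem ideal_eq_span (W : X.affineOpens) (f : Γ(X, W.1))
    (hu : ∀ y (hy : y ∈ W.1), y ≠ x → IsUnit (X.presheaf.germ W.1 y hy f))
    (hm : ∀ hxW : x ∈ W.1,
      IsLocalRing.maximalIdeal (X.presheaf.stalk x) = Ideal.span {X.presheaf.germ W.1 x hxW f}) :
    (ptI hx).ideal W = Ideal.span {f} := by
  refine le_antisymm (fun a ha => ?_) ?_
  · let J : Ideal Γ(X, W.1) := Submodule.comap (LinearMap.mul Γ(X, W.1) Γ(X, W.1) a) (Ideal.span {f})
    suffices J = ⊤ by
      have h1 : (1 : Γ(X, W.1)) ∈ J := this ▸ Submodule.mem_top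
      simpa [J] using h1
    by_contra hJ
    obtain ⟨m, hm', hJm⟩ := Ideal.exists_le_maximal J hJ
    let p : PrimeSpectrum Γ(X, W.1) := ⟨m, hm'.isPrime⟩
    have hpW : W.2.fromSpec p ∈ W.1 := by
      have : W.2.fromSpec p ∈ Set.range W.2.fromSpec := ⟨p, rfl⟩
      rwa [W.2.range_fromSpec] at this
    let := X.presheaf.algebra_section_stalk (⟨W.2.fromSpec p, hpW⟩ : W.1)
    haveI hloc : IsLocalization p.asIdeal.primeCompl (X.presheaf.stalk (W.2.fromSpec p)) :=
      W.2.isLocalization_stalk' p hpW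
    have hdvd : X.presheaf.germ W.1 (W.2.fromSpec p) hpW f ∣
        X.presheaf.germ W.1 (W.2.fromSpec p) hpW a := by
      generalize hy : W.2.fromSpec p = y at hpW
      by_cases hyx : y = x
      · subst hyx
        rw [← Ideal.mem_span_singleton, ← hm hpW]
        exact germ_not_isUnit_of_mem hx hpW ha
      · exact (hu y hpW hyx).dvd
    obtain ⟨z, hz⟩ := hdvd
    obtain ⟨⟨b, c⟩, hbc⟩ := IsLocalization.surj p.asIdeal.primeCompl z
    have hbc' : z * X.presheaf.germ W.1 _ hpW c.1 = X.presheaf.germ W.1 _ hpW b := hbc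
    have heq : X.presheaf.germ W.1 _ hpW (a * c.1) = X.presheaf.germ W.1 _ hpW (f * b) := by
      rw [map_mul, map_mul, ← hbc', hz, mul_assoc]
    obtain ⟨c', hc'⟩ := IsLocalization.exists_of_eq (M := p.asIdeal.primeCompl)
      (S := X.presheaf.stalk (W.2.fromSpec p)) heq
    have : (c'.1 * c.1 : Γ(X, W.1)) ∈ J := by
      change a * (c'.1 * c.1) ∈ Ideal.span {f}
      rw [show a * (c'.1 * c.1) = c'.1 * (a * c.1) by ring, hc', Ideal.mem_span_singleton]
      exact ⟨c'.1 * b, by ring⟩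
    exact (c' * c).2 (hJm this)
  · rw [Ideal.span_le, Set.singleton_subset_iff, SetLike.mem_coe,
      Scheme.IdealSheafData.vanishingIdeal_ideal, PrimeSpectrum.mem_vanishingIdeal]
    intro p hp
    by_contra hc
    have hp' : W.2.fromSpec p = x := hp
    have h1 : W.2.fromSpec p ∈ X.basicOpen f :=
      (IsAffineOpen.fromSpec_preimage_basicOpen W.2 f).ge hc
    rw [hp'] at h1
    have hxW : x ∈ W.1 := X.basicOpen_le f h1
    have hfu := (X.mem_basicOpen f x hxW).mp h1
    have h2 : X.presheaf.germ W.1 x hxW f ∈ IsLocalRing.maximalIdeal (X.presheaf.stalk x) := by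
      rw [hm hxW]; exact Ideal.mem_span_singleton_self _
    exact h2 hfu

include hx in
theorem exists_isDivOfIdeal [AlgebraicGeometry.IsNoetherian X] (hC : MeroCurve.IsAbsCurve X)
    (hreg : IsRegularLocalRing (X.presheaf.stalk x)) :
    ∃ P : Divisor X, IsDivOfIdeal P (ptI hx) := by
  classical
  haveI := hreg
  obtain ⟨π, hπ⟩ := SSComp98.Points.exists_generator (A := X.presheaf.stalk x) (hC x hx).le
  haveI := Regular.Quotient.isDomain (X.presheaf.stalk x)
  have hπ0 : π ≠ 0 := by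
    rintro rfl
    rw [Ideal.span_singleton_zero, ← IsLocalRing.isField_iff_maximalIdeal_eq] at hπ
    have := hC x hx
    rw [ringKrullDim_eq_zero_of_isField hπ] at this
    exact zero_ne_one this
  have hπn := mem_nonZeroDivisors_of_ne_zero hπ0
  obtain ⟨V, hxV, s, hsx, hsu⟩ := MeroCurve.exists_nhd hC hx π hπn
  obtain ⟨W, hW, hxW, hWV⟩ := exists_isAffineOpen_mem_and_subset (show x ∈ V from hxV)
  let f : Γ(X, W) := X.presheaf.map (homOfLE hWV).op s
  have hfx : X.presheaf.germ W x hxW f = π := (TopCat.Presheaf.germ_res_apply _ _ _ _ _).trans hsx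
  have hfu : ∀ y (hy : y ∈ W), y ≠ x → IsUnit (X.presheaf.germ W y hy f) := fun y hy hne => by
    exact (TopCat.Presheaf.germ_res_apply X.presheaf (homOfLE hWV) y hy s).symm ▸ hsu y (hWV hy) hne
  have hfr : f ∈ regSub X W := MeroCurve.mem_regSub_of_isUnit_off hxW f (hfx ▸ hπn) hfu
  let g : ∀ y : X, Germ X y := fun y =>
    if h : y ∈ W then MeroCurve.cls (regGerm ⟨y, h⟩ ⟨f, hfr⟩) else 1
  have hg1 : ∀ y, y ≠ x → g y = 1 := fun y hy => by
    dsimp only [g]
    split_ifs with h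
    · exact MeroCurve.cls_eq_one _ (hfu y h hy)
    · rfl
  have hgW : ∀ y (hy : y ∈ W), g y = MeroCurve.cls (regGerm ⟨y, hy⟩ ⟨f, hfr⟩) :=
    fun y hy => dif_pos hy
  have hmem : g ∈ divisorGroup X := fun y => by
    by_cases hy : y = x
    · subst hy
      exact ⟨W, hxW, MeroCurve.toKUnit ⟨f, hfr⟩, fun z =>
        (hgW z.1 z.2).trans (MeroCurve.germOf_toKUnit ⟨f, hfr⟩ z).symm⟩
    · exact ⟨⟨{x}ᶜ, hx.isOpen_compl⟩, hy, 1, fun z => by
        rw [hg1 z.1 z.2, germOf, map_one, QuotientGroup.mk_one]⟩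
  refine ⟨⟨g, hmem⟩, fun y => ?_⟩
  by_cases hy : y = x
  · subst hy
    refine ⟨⟨W, hW⟩, hxW, f, hfr, ideal_eq_span hx ⟨W, hW⟩ f hfu (fun h => ?_), fun z => hgW z.1 z.2⟩
    rw [hfx]; exact hπ
  · obtain ⟨U, hU, hyU, hUle⟩ := exists_isAffineOpen_mem_and_subset
      (show y ∈ (⟨{x}ᶜ, hx.isOpen_compl⟩ : X.Opens) from hy)
    refine ⟨⟨U, hU⟩, hyU, 1, one_mem _,
      ideal_eq_span hx ⟨U, hU⟩ 1 (fun z hz _ => by rw [map_one]; exact isUnit_one)
        (fun h => absurd rfl (hUle h : x ∈ ({x}ᶜ : Set X))), fun z => ?_⟩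
    exact (hg1 z.1 (hUle z.2)).trans (MeroCurve.cls_eq_one _ (by
      change IsUnit (X.presheaf.germ U z.1 z.2 1)
      rw [map_one]; exact isUnit_one)).symm

omit hx

theorem divCond_of_rep (E : Divisor X) {y : X} {t : KStalk X y} {g : (KStalk X y)ˣ}
    (hg : E.1 y = QuotientGroup.mk g)
    (ht : t * g ∈ (algebraMap (X.presheaf.stalk y) (KStalk X y)).range) : DivCond E y t := by
  intro g' hg'
  rw [hg, QuotientGroup.eq] at hg'
  obtain ⟨w, hw⟩ := hg'
  have : g' = g * Units.map (algebraMap (X.presheaf.stalk y) (KStalk X y)).toMonoidHom w := by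
    rw [hw, mul_inv_cancel_left]
  rw [this, Units.val_mul, ← mul_assoc]
  exact mul_mem ht ⟨w, rfl⟩

theorem rep_div {D P : Divisor X} {y : X} {g : (KStalk X y)ˣ} (hg : D.1 y = QuotientGroup.mk g)
    {a : regStalk X y} (ha : P.1 y = MeroCurve.cls a) :
    (D * P⁻¹).1 y = QuotientGroup.mk (g * (IsLocalization.map_units (KStalk X y) a).unit⁻¹) := by
  rw [QuotientGroup.mk_mul, QuotientGroup.mk_inv, ← hg]
  exact congrArg (D.1 y * ·) (congrArg (·⁻¹) ha)

variable (D : Divisor X) {P : Divisor X} (hP : IsEffective P)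

include hP in
theorem divCond_le {y : X} {t : KStalk X y} (h : DivCond (D * P⁻¹) y t) : DivCond D y t := by
  obtain ⟨a, ha⟩ := hP y
  obtain ⟨g, hg⟩ := QuotientGroup.mk_surjective (D.1 y)
  obtain ⟨z, hz⟩ := h _ (rep_div hg.symm ha)
  refine divCond_of_rep D hg.symm ⟨z * a.1, ?_⟩
  rw [map_mul, hz, Units.val_mul, mul_assoc, mul_assoc]
  refine congrArg (t * ·) ?_
  have h1 := (IsLocalization.map_units (KStalk X y) a).val_inv_mul
  rw [h1, mul_one]

/-- The inclusion `O(D - P) ⟶ O(D)`. -/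
def incl : divMod (D * P⁻¹) ⟶ divMod D :=
  ⟨PresheafOfModules.homMk (M₁ := (divMod (D * P⁻¹)).val) (M₂ := (divMod D).val)
    { app := fun U => AddCommGrpCat.ofHom
        { toFun := fun (f : Γ(divMod (D * P⁻¹), U.unop)) =>
            (⟨f.1, f.2.1, fun y => divCond_le D hP (f.2.2 y)⟩ : Γ(divMod D, U.unop))
          map_zero' := rfl
          map_add' := fun _ _ => rfl }
      naturality := by intros; rfl }
    (fun _ _ _ => rfl)⟩

theorem mono_incl : Mono (incl D hP) := by
  rw [Modules.Stalk.mono_iff_app_injective]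
  intro U t t' h
  exact Subtype.ext (congrArg Subtype.val h :)

theorem exists_coord (y : X) :
    ∃ (g : (KStalk X y)ˣ) (r : Γ(divMod D, ⊤) → X.presheaf.stalk y),
      D.1 y = QuotientGroup.mk g ∧
      (∀ t, t.1 ⟨y, trivial⟩ * g = algebraMap _ (KStalk X y) (r t)) ∧
      (H34.GlobGen.Gl (divMod D) y = ⊤ ↔ ∃ t, IsUnit (r t)) := by
  obtain ⟨U, hyU, f, hf⟩ := D.2 y
  obtain ⟨e, he, hev⟩ := MeroK.DivMod.exists_gen D f hf
  let g : (KStalk X y)ˣ := Units.map (evalK X U ⟨y, hyU⟩).toMonoidHom f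
  have hc : ∀ t : Γ(divMod D, ⊤), ∃ c : X.presheaf.stalk y,
      (divMod D).presheaf.germ ⊤ y trivial t = c • (divMod D).presheaf.germ U y hyU e ∧
        t.1 ⟨y, trivial⟩ * g = algebraMap _ (KStalk X y) c := fun t => by
    obtain ⟨a, ha⟩ := (he U le_rfl).2 (rs (divMod D) le_top t)
    simp only [rs_self] at ha
    refine ⟨X.presheaf.germ U y hyU a, ?_, ?_⟩
    · rw [← Modules.StalkModule.germ_smul, ha]
      exact (MeroK.RegMero.germ_rs (le_top : U ≤ ⊤) hyU t).symm
    · have h1 : X.presheaf.germ U y hyU a • e.1 ⟨y, hyU⟩ = t.1 ⟨y, trivial⟩ :=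
        congrFun (congrArg Subtype.val ha) ⟨y, hyU⟩
      rw [← h1, MeroK.DivMod.smul_eq_algebraMap_mul, hev, mul_assoc]
      refine Eq.trans (congrArg (_ * ·) ?_) (mul_one _)
      change (↑f⁻¹ : Γ(kmod X, U)).1 ⟨y, hyU⟩ * (↑f : Γ(kmod X, U)).1 ⟨y, hyU⟩ = 1
      rw [← kmod_mul_apply, Units.inv_mul, kmod_one_apply]
  choose r hr hr' using hc
  refine ⟨g, r, hf ⟨y, hyU⟩, hr', ⟨fun h => ?_, ?_⟩⟩
  · by_contra hn
    push Not at hn
    let ψ := LinearMap.toSpanSingleton (X.presheaf.stalk y) _ ((divMod D).presheaf.germ U y hyU e)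
    have hle : H34.GlobGen.Gl (divMod D) y ≤ Submodule.map ψ (IsLocalRing.maximalIdeal _) := by
      rw [H34.GlobGen.Gl, Submodule.span_le]
      rintro _ ⟨t, rfl⟩
      exact ⟨r t, hn t, (hr t).symm⟩
    obtain ⟨c, hc, hce⟩ := hle (h ▸ Submodule.mem_top :
      (divMod D).presheaf.germ U y hyU e ∈ H34.GlobGen.Gl (divMod D) y)
    have h1 : c = 1 := (MeroK.RegMero.stalk_gen he hyU).1
      (a₁ := c) (a₂ := 1) ((show c • _ = _ from hce).trans (one_smul _ _).symm)
    exact (IsLocalRing.mem_maximalIdeal c).1 hc (h1 ▸ isUnit_one)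
  · rintro ⟨t, hu⟩
    rw [eq_top_iff]
    intro v _
    obtain ⟨c, rfl⟩ := (MeroK.RegMero.stalk_gen he hyU).2 v
    have : c • (divMod D).presheaf.germ U y hyU e =
        (c * ↑hu.unit⁻¹) • (divMod D).presheaf.germ ⊤ y trivial t := by
      rw [hr t, smul_smul, mul_assoc, hu.val_inv_mul, mul_one]
    change c • (divMod D).presheaf.germ U y hyU e ∈ _
    rw [this]
    exact Submodule.smul_mem _ _ (Submodule.subset_span ⟨t, rfl⟩)

theorem mem_range_iff (hP' : IsPointDiv x P) {g : (KStalk X x)ˣ}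
    {r : Γ(divMod D, ⊤) → X.presheaf.stalk x} (hg : D.1 x = QuotientGroup.mk g)
    (hr : ∀ t, t.1 ⟨x, trivial⟩ * g = algebraMap _ (KStalk X x) (r t)) (t : Γ(divMod D, ⊤)) :
    (∃ s, (incl D hP).app ⊤ s = t) ↔ ¬ IsUnit (r t) := by
  obtain ⟨hP1, a, ha, hm⟩ := hP'
  have hrep := rep_div hg ha
  have hia := (IsLocalization.map_units (KStalk X x) a).val_inv_mul
  constructor
  · rintro ⟨s, rfl⟩
    obtain ⟨z, hz⟩ := s.2.2 ⟨x, trivial⟩ _ hrep
    have h1 : r ((incl D hP).app ⊤ s) = z * a.1 := algebraMap_KStalk_injective x (by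
      rw [← hr, map_mul, hz, Units.val_mul, mul_assoc, mul_assoc, hia, mul_one]
      rfl)
    rw [h1]
    refine fun hu => ?_
    have : a.1 ∈ IsLocalRing.maximalIdeal (X.presheaf.stalk x) := by
      rw [hm]; exact Ideal.mem_span_singleton_self _
    exact this (isUnit_of_mul_isUnit_right hu)
  · intro hn
    obtain ⟨z, hz⟩ := Ideal.mem_span_singleton.1
      (hm ▸ hn : r t ∈ Ideal.span {a.1})
    refine ⟨⟨t.1, t.2.1, fun y => ?_⟩, rfl⟩
    by_cases hy : y.1 = x
    · obtain ⟨y, hy'⟩ := y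
      subst hy
      refine divCond_of_rep _ hrep ⟨z, ?_⟩
      rw [Units.val_mul, ← mul_assoc]
      refine Eq.trans ?_ (congrArg (· * _) (hr t)).symm
      rw [hz, map_mul, mul_comm (algebraMap _ _ a.1), mul_assoc]
      rw [show (algebraMap _ (KStalk X y)) a.1 *
        ↑(IsLocalization.map_units (KStalk X y) a).unit⁻¹ = 1 from
          (IsLocalization.map_units (KStalk X y) a).mul_val_inv, mul_one]
    · intro g' hg'
      have h2 : (D * P⁻¹).1 y.1 = D.1 y.1 := by
        refine (congrArg (fun q : Germ X y.1 => D.1 y.1 * q⁻¹) (hP1 y.1 hy)).trans ?_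
        simp only [inv_one]
        exact mul_one (M := Germ X y.1) _
      exact t.2.2 y g' (h2.symm.trans hg')

variable {k : Type u} [Field k] [X.Over (Spec (CommRingCat.of k))]
  [IsProper (X ↘ Spec (CommRingCat.of k))]

open Groth.Agent.Lib.Curves.LES Groth.Agent.Lib.Curves.Euler

theorem finrank_lt_iff (hdim : topologicalKrullDim X ≤ 1) :
    Module.finrank k (Coh.HH X (divMod (D * P⁻¹)) 0) < Module.finrank k (Coh.HH X (divMod D) 0) ↔
      ∃ t : Γ(divMod D, ⊤), ∀ s, (incl D hP).app ⊤ s ≠ t := by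
  haveI := Curves.GlobalSections.isNoetherian_of_proper k X
  have hfin : ∀ E : Divisor X, FiniteDimensional k (Coh.HH X (divMod E) 0) := fun E =>
    (Curves.Finiteness.isGood_of_isCoh hdim
      (Ample.GG.isCoh_of_isInvertible (MeroK.DivMod.isInvertible_divMod E))).fin₀
  haveI := hfin D
  haveI := hfin (D * P⁻¹)
  haveI := mono_incl D hP
  have hinj := mapK_injective_of_mono k (incl D hP)
  let e := Curves.GlobalSections.h0Equiv (divMod (D * P⁻¹))
  let e' := Curves.GlobalSections.h0Equiv (divMod D)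
  have nat : ∀ z, (incl D hP).app ⊤ (e z) = e' (mapK k (incl D hP) 0 z) := fun z =>
    Sheaf.H.equiv₀_naturality (F := Coh.toAb (divMod (D * P⁻¹))) (G := Coh.toAb (divMod D))
      (isTerminalTop (α := Opens X)) (toAbMap (incl D hP)) z
  refine ⟨fun hlt => ?_, ?_⟩
  · by_contra h
    push Not at h
    have hsurj : Function.Surjective (mapK k (incl D hP) 0) := fun w => by
      obtain ⟨s, hs⟩ := h (e' w)
      exact ⟨e.symm s, e'.injective ((nat _).symm.trans (by rw [e.apply_symm_apply]; exact hs))⟩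
    exact hlt.ne (LinearEquiv.ofBijective _ ⟨hinj, hsurj⟩).finrank_eq
  · rintro ⟨t, ht⟩
    refine lt_of_le_of_ne (LinearMap.finrank_le_finrank_of_injective hinj) fun heq => ?_
    obtain ⟨z, hz⟩ := (LinearMap.injective_iff_surjective_of_finrank_eq_finrank heq).mp hinj
      (e'.symm t)
    exact ht (e z) ((nat z).trans ((congrArg e' hz).trans (e'.apply_symm_apply t)))

end Groth.Agent.H25.DivPoint
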